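import Cfsg.Agent.Lib.Leech.CoOneInvol.Central
import Cfsg.Agent.Lib.Layer.Characteristic
import Cfsg.Agent.Lib.Fitting.Basic

/-!
The centralizer of the octad involution in the quotient by the centre.
-/

set_option autoImplicit false
set_option maxRecDepth 100000
set_option linter.style.haveILetI false

namespace CfsgLib.Leech.Octad

open Cfsg CfsgLib.Golay CfsgLib.Leech

attribute [local irreducible] dL bL key keyL coord packB linL bits

local notation "Q8" => Cfsg.quadFormPlus 4 (ZMod 2)

theorem split_ok : ∀ a : J8 → ZMod 2,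
    (∃ b, Q8 b = 1 ∧ Q8 (a + b) = 1) ∧ (∃ b, Q8 b = 0 ∧ Q8 (a + b) = 0) := by
  decide +kernel

theorem zmod_two_cases : ∀ c : ZMod 2, c = 0 ∨ c = 1 := by decide

theorem no_conj_neg (x : ↥Co0) : x * tO * x⁻¹ ≠ negAut * tO := by
  intro h
  have hin : ∀ p : {p : GolayPt // p ∉ dec oct0}, InO (x⁻¹ • eightL p.1) := by
    intro p
    rw [inO_iff, ← mul_smul, show tO * x⁻¹ = x⁻¹ * (negAut * tO) by rw [← h]; group, mul_smul]
    congr 1
    refine Subtype.ext (funext fun i => ?_)
    rw [mul_smul, negAut_smul, AddSubgroup.coe_neg, Pi.neg_apply, tO_smul]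
    by_cases hi : i = p.1
    · subst hi; rw [if_neg p.2, neg_neg]
    · have : (eightL p.1 : GolayPt → ℤ) i = 0 := by simp [eightL, eight, hi]
      rw [this]
      split_ifs <;> rfl
  let u : {p : GolayPt // p ∉ dec oct0} → ({q : GolayPt // q ∈ dec oct0} → ℚ) :=
    fun p q => (((x⁻¹ • eightL p.1 : ↥leechLattice) : GolayPt → ℤ) q.1 : ℚ)
  have hdot : ∀ p p', ∑ q, u p q * u p' q = if p = p' then 64 else 0 := by
    intro p p'
    have e : dotInt ((x⁻¹ • eightL p.1 : ↥leechLattice) : GolayPt → ℤ)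
        ((x⁻¹ • eightL p'.1 : ↥leechLattice) : GolayPt → ℤ) =
        ∑ q ∈ dec oct0, ((x⁻¹ • eightL p.1 : ↥leechLattice) : GolayPt → ℤ) q *
          ((x⁻¹ • eightL p'.1 : ↥leechLattice) : GolayPt → ℤ) q :=
      (Finset.sum_subset (Finset.subset_univ _) fun q _ hq => by rw [hin p q hq, zero_mul]).symm
    rw [dotInt_smul] at e
    have hs : ∑ q, u p q * u p' q = ((∑ q ∈ dec oct0, ((x⁻¹ • eightL p.1 : ↥leechLattice) : GolayPt → ℤ) q *
          ((x⁻¹ • eightL p'.1 : ↥leechLattice) : GolayPt → ℤ) q : ℤ) : ℚ) := by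
      rw [Finset.sum_subtype (dec oct0) (fun _ => Iff.rfl)]
      push_cast
      rfl
    rw [hs, ← e, show (eightL p'.1 : GolayPt → ℤ) = eight p'.1 from rfl, dotInt_eight]
    by_cases hp : p = p'
    · subst hp; rw [if_pos rfl]; simp [eightL, eight]
    · rw [if_neg hp]
      have : p'.1 ≠ p.1 := fun e => hp (Subtype.ext e.symm)
      simp [eightL, eight, this]
  have hli : LinearIndependent ℚ u := by
    rw [Fintype.linearIndependent_iff]
    intro c hc p
    have h0 : ∑ q, (∑ p', c p' • u p') q * u p q = 0 := by rw [hc]; simp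
    simp only [Finset.sum_apply, Pi.smul_apply, smul_eq_mul, Finset.sum_mul, mul_assoc] at h0
    rw [Finset.sum_comm] at h0
    simp only [← Finset.mul_sum, hdot, mul_ite, mul_zero, Finset.sum_ite_eq', Finset.mem_univ, if_true] at h0
    linarith
  have hle := hli.fintype_card_le_finrank
  rw [Module.finrank_fintype_fun_eq_card, Fintype.card_coe, card_oct0, Fintype.card_subtype_compl,
    Fintype.card_coe, card_oct0, show Fintype.card GolayPt = 24 by decide +kernel] at hle
  omega

/-- the projection to the quotient by the centre -/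
noncomputable abbrev pz : ↥Co0 →* Cfsg.Spor.Co1 := QuotientGroup.mk' (Subgroup.center ↥Co0)

theorem center_or {c : ↥Co0} (hc : c ∈ Subgroup.center ↥Co0) : c = 1 ∨ c = negAut := by
  rw [← SetLike.mem_coe, CfsgLib.Leech.center_eq] at hc
  exact hc

/-- the centralizer in the quotient -/
noncomputable abbrev CZ : Subgroup Cfsg.Spor.Co1 := Subgroup.centralizer ({pz tO} : Set Cfsg.Spor.Co1)

/-- the projection of the centralizer -/
noncomputable def psi : ↥CO →* ↥CZ :=
  (pz.comp CO.subtype).codRestrict CZ fun g => by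
    refine Subgroup.mem_centralizer_singleton_iff.2 ?_
    show pz g * pz tO = pz tO * pz g
    rw [← map_mul, ← map_mul, Subgroup.mem_centralizer_singleton_iff.1 g.2]

theorem psi_surjective : Function.Surjective psi := by
  intro w
  obtain ⟨x, hx⟩ := QuotientGroup.mk'_surjective (Subgroup.center ↥Co0) (w : Cfsg.Spor.Co1)
  have h := Subgroup.mem_centralizer_singleton_iff.1 w.2
  rw [← hx, ← map_mul, ← map_mul] at h
  have hc : (tO * x)⁻¹ * (x * tO) ∈ Subgroup.center ↥Co0 := QuotientGroup.eq.1 h.symm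
  have hxC : x ∈ CO := by
    refine Subgroup.mem_centralizer_singleton_iff.2 ?_
    rcases center_or hc with e | e
    · exact (inv_mul_eq_one.1 e).symm
    · exfalso
      refine no_conj_neg x ?_
      rw [inv_mul_eq_iff_eq_mul.1 e, Subgroup.mem_center_iff.1 negAut_mem_center, mul_assoc, mul_assoc,
        mul_inv_cancel, mul_one]
  exact ⟨⟨x, hxC⟩, Subtype.ext hx⟩

theorem psi_ker {g : ↥CO} (h : psi g = 1) : g = 1 ∨ g = negO := by
  have hc : (g : ↥Co0) ∈ Subgroup.center ↥Co0 := (QuotientGroup.eq_one_iff _).1 (congrArg Subtype.val h)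
  rcases center_or hc with e | e
  · exact Or.inl (Subtype.ext e)
  · exact Or.inr (Subtype.ext e)

theorem psi_negO : psi negO = 1 :=
  Subtype.ext ((QuotientGroup.eq_one_iff _).2 negAut_mem_center)

/-- the action of the centralizer in the quotient -/
noncomputable def theta : ↥CZ →* Cfsg.isometryGroup (ZMod 2) Q8 :=
  psi.liftOfSurjective psi_surjective ⟨toO, fun g hg => by
    rcases psi_ker hg with rfl | rfl
    · exact map_one toO
    · exact toO_negO⟩

theorem theta_psi (g : ↥CO) : theta (psi g) = toO g := by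
  show (psi.liftOfSurjective psi_surjective _) (psi g) = _
  exact MonoidHom.liftOfRightInverse_comp_apply _ _ _ _ g

theorem range_theta : theta.range = Cfsg.Omega (ZMod 2) Q8 := by
  rw [← range_toO]
  ext y
  constructor
  · rintro ⟨w, rfl⟩
    obtain ⟨g, rfl⟩ := psi_surjective w
    exact ⟨g, (theta_psi g).symm⟩
  · rintro ⟨g, rfl⟩
    exact ⟨psi g, theta_psi g⟩

/-- the image of the extraspecial group -/
noncomputable def kz : ↥KT →* ↥CZ := psi.comp inK

theorem kz_injective : Function.Injective kz := by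
  refine (injective_iff_map_eq_one kz).2 fun k hk => ?_
  rcases psi_ker (g := inK k) hk with e | e
  · exact inK_injective (e.trans (map_one inK).symm)
  · exact absurd (by rw [map_one, mul_one]; exact e.symm : negO * inK 1 = inK k) (negO_mul_ne 1 k)

theorem range_kz : kz.range = theta.ker := by
  ext w
  constructor
  · rintro ⟨k, rfl⟩
    show theta (psi (inK k)) = 1
    rw [theta_psi, toO_inK]
  · intro hw
    obtain ⟨g, rfl⟩ := psi_surjective w
    obtain ⟨k, hk | hk⟩ := kernel_spec (g := g) (by rw [← theta_psi]; exact hw)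
    · exact ⟨k, by rw [hk]; rfl⟩
    · exact ⟨k, by rw [hk, map_mul, psi_negO, one_mul]; rfl⟩

/-- the extraspecial group is isomorphic to its image -/
noncomputable def kerEquiv : ↥KT ≃* ↥theta.ker :=
  (MonoidHom.ofInjective kz_injective).trans (MulEquiv.subgroupCongr range_kz)

theorem natCard_thetaKer : Nat.card ↥theta.ker = 2 ^ 9 := by
  rw [← Nat.card_congr kerEquiv.toEquiv, natCard_KT]

theorem centralizer_ker : Subgroup.centralizer (theta.ker : Set ↥CZ) ≤ theta.ker := by
  intro w hw
  obtain ⟨x, rfl⟩ := psi_surjective w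
  rw [MonoidHom.mem_ker, theta_psi]
  refine toO_eq_one_of_central fun k => ?_
  have h : psi x * psi (inK k) = psi (inK k) * psi x :=
    (Subgroup.mem_centralizer_iff.1 hw (psi (inK k)) (range_kz.le ⟨k, rfl⟩)).symm
  have hn : toO (x * inK k * x⁻¹) = 1 := by
    rw [map_mul, map_mul, toO_inK, mul_one, map_inv, mul_inv_cancel]
  have h1 : psi ((x * inK k * x⁻¹)⁻¹ * inK k) = 1 := by
    rw [map_mul, map_inv, map_mul, map_mul, map_inv, h, mul_inv_cancel_right, inv_mul_cancel]
  rcases psi_ker h1 with e | e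
  · rw [inv_mul_eq_one, mul_inv_eq_iff_eq_mul] at e
    exact e
  · exfalso
    obtain ⟨k', hk'⟩ : ∃ k', x * inK k * x⁻¹ = inK k' := by
      obtain ⟨k', hk' | hk'⟩ := kernel_spec hn
      · exact ⟨k', hk'⟩
      · exfalso
        have hfix : ((x * inK k * x⁻¹ : ↥CO) : ↥Co0) • uV = uV := by
          rw [Subgroup.coe_mul, Subgroup.coe_mul, mul_smul, mul_smul,
            inK_fix k (inO_smul_CO x⁻¹ InO.uV), ← mul_smul, ← Subgroup.coe_mul, mul_inv_cancel,
            Subgroup.coe_one, one_smul]
        rw [hk', Subgroup.coe_mul, mul_smul, inK_fix k' InO.uV] at hfix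
        rw [show (negO : ↥Co0) = negAut from rfl, negAut_smul] at hfix
        have e0 : (uV : ↥leechLattice) = 0 := Subtype.ext (funext fun p => by
          have := congrFun (congrArg Subtype.val hfix) p
          simp only [AddSubgroup.coe_neg, Pi.neg_apply] at this
          show (uV : GolayPt → ℤ) p = 0
          omega)
        have := sqNorm_uV
        rw [e0] at this
        simp [sqNorm] at this
    rw [hk', inv_mul_eq_iff_eq_mul] at e
    refine negO_mul_ne k' k ?_
    rw [e]
    exact Subtype.ext (Subgroup.mem_center_iff.1 negAut_mem_center _).symm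

theorem pCore_CZ : Cfsg.pCore 2 ↥CZ = theta.ker := by
  haveI : Finite ↥Co0 := finite_Co0
  haveI : Fact (Nat.Prime 2) := ⟨Nat.prime_two⟩
  refine le_antisymm (fun w hw => ?_) (Fitting.le_pCore inferInstance (IsPGroup.of_card natCard_thetaKer))
  haveI := Fitting.pCore_normal (G := ↥CZ) 2
  set N := (Cfsg.pCore 2 ↥CZ).comap psi with hN
  haveI : N.Normal := Subgroup.Normal.comap inferInstance psi
  have hker : IsPGroup 2 psi.ker := fun g => ⟨1, Subtype.ext (by
    show (g : ↥CO) ^ 2 ^ 1 = 1
    rcases psi_ker g.2 with e | e <;> rw [e]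
    · exact one_pow _
    · refine Subtype.ext (aut_ext fun v => ?_)
      show (negAut ^ 2) • v = (1 : ↥Co0) • v
      rw [sq, mul_smul, negAut_smul, negAut_smul, neg_neg, one_smul])⟩
  have hP : IsPGroup 2 N := (Fitting.pCore_isPGroup (G := ↥CZ) 2).comap_of_ker_isPGroup psi hker
  letI : MulAction ↥N (J8 → ZMod 2) :=
    { smul := fun n a => act8 n.1 a
      one_smul := fun a => act8_one a
      mul_smul := fun m n a => act8_mul m.1 n.1 a }
  have h0 : (0 : J8 → ZMod 2) ∈ MulAction.fixedPoints ↥N (J8 → ZMod 2) := fun n => by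
    show act8 n.1 0 = 0
    exact (lin8 n.1).map_zero
  obtain ⟨v, hv, hne⟩ := hP.exists_fixed_point_of_prime_dvd_card_of_fixed_point
    (α := J8 → ZMod 2) (by rw [Nat.card_eq_fintype_card]; simp) h0
  obtain ⟨x, rfl⟩ := psi_surjective w
  rw [MonoidHom.mem_ker, theta_psi, ← map_one toO, toO_eq_iff]
  have main : ∀ a : J8 → ZMod 2, Q8 a = Q8 v → act8 x a = a := by
    intro a ha
    by_cases ha0 : a = 0
    · subst ha0; exact (lin8 x).map_zero
    obtain ⟨g, hg⟩ := exists_act8 ha0
    obtain ⟨f, hf⟩ := exists_act8 (Ne.symm hne)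
    rw [ha] at hg
    have e : act8 (g * f⁻¹) v = a := by
      conv_lhs => rw [← hf]
      rw [← act8_mul, inv_mul_cancel_right, hg]
    have hm : (g * f⁻¹)⁻¹ * x * (g * f⁻¹) ∈ N := by
      have h' := ‹N.Normal›.conj_mem x hw (g * f⁻¹)⁻¹
      rwa [inv_inv] at h'
    have h1 : act8 ((g * f⁻¹)⁻¹ * x * (g * f⁻¹)) v = v := hv ⟨_, hm⟩
    calc act8 x a = act8 (g * f⁻¹) (act8 ((g * f⁻¹)⁻¹ * x * (g * f⁻¹)) v) := by
          rw [← act8_mul, ← e, ← act8_mul]; congr 1; group
      _ = a := by rw [h1, e]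
  intro a
  rw [act8_one]
  have hq : Q8 v = 0 ∨ Q8 v = 1 := zmod_two_cases _
  obtain ⟨⟨b, hb, hab⟩, ⟨c, hc, hac⟩⟩ := split_ok a
  rcases hq with hq | hq
  · have e : a = (a + c) + c := by
      rw [add_assoc, show c + c = 0 from funext fun k => CharTwo.add_self_eq_zero _, add_zero]
    rw [e, act8_add, main _ (hac.trans hq.symm), main _ (hc.trans hq.symm)]
  · have e : a = (a + b) + b := by
      rw [add_assoc, show b + b = 0 from funext fun k => CharTwo.add_self_eq_zero _, add_zero]
    rw [e, act8_add, main _ (hab.trans hq.symm), main _ (hb.trans hq.symm)]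

theorem fstar_CZ : Cfsg.generalizedFittingSubgroup ↥CZ = theta.ker := by
  haveI : Finite ↥Co0 := finite_Co0
  haveI : Fact (Nat.Prime 2) := ⟨Nat.prime_two⟩
  rw [← pCore_CZ]
  refine CfsgLib.Layer.generalizedFitting_eq_pCore_iff.2 ?_
  rw [pCore_CZ]
  exact centralizer_ker

end CfsgLib.Leech.Octad
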