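import Cfsg.Agent.Lib.Leech.CoOneInvol.Image

/-!
What centralizes the extraspecial subgroup acts trivially on the classes of the octad.
-/

set_option autoImplicit false
set_option maxRecDepth 100000
set_option linter.style.haveILetI false

namespace CfsgLib.Leech.Octad

open Cfsg CfsgLib.Golay CfsgLib.Leech

attribute [local irreducible] dL bL key keyL coord packB linL bits

theorem proj_ok : ∀ j : Fin 8, inL (projL.getD j.val []) = true ∧
    ∀ i : Fin 24, oct0.testBit i.val = true →
      2 * (projL.getD j.val []).getD i.val 0 = (zL.getD j.val []).getD i.val 0 := by decide +kernel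

theorem separate_ok : ∀ p : Fin 24, oct0.testBit p.val = false →
    (offL.any fun m => m.testBit p.val) = true ∧
    ∀ q : Fin 24, oct0.testBit q.val = false → p ≠ q →
      (offL.any fun m => m.testBit p.val != m.testBit q.val) = true := by decide +kernel

theorem move_ok : oct0.testBit 4 = false ∧ 0 ∈ offL ∧ ∀ q : Fin 24, oct0.testBit q.val = false →
    (trans6.any fun P => ap P q.val == 4) = true := by decide +kernel

theorem out_iff {p : GolayPt} : p ∉ dec oct0 ↔ oct0.testBit (idx p) = false := by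
  rw [mem_dec, Bool.not_eq_true]

theorem inK_smul {P m : ℕ} (hP : P ∈ trans6) (hm : m ∈ offL) : ∃ k : ↥KT, ∀ (v : ↥leechLattice) i,
    (((inK k : ↥Co0) • v : ↥leechLattice) : GolayPt → ℤ) i =
      if m.testBit (idx i) then -(v : GolayPt → ℤ) (toPerm P i) else (v : GolayPt → ℤ) (toPerm P i) := by
  obtain ⟨k, hσ, hd, hk⟩ := exists_elt hP hm
  refine ⟨k, fun v i => ?_⟩
  show ((valK k • v : ↥leechLattice) : GolayPt → ℤ) i = _
  rw [hk]
  show (((monoIso hσ hd).aut • v : ↥leechLattice) : GolayPt → ℤ) i = _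
  rw [Iso.aut_smul]
  show monoFun _ _ _ i = _
  simp only [monoFun, mem_dec]

theorem exists_one : ∃ Q ∈ trans6, toPerm Q = 1 := by
  obtain ⟨Q, hQ, -, he⟩ := mem_fixF6 (one_mem (fixH M24 F6))
  exact ⟨Q, hQ, he.symm⟩

variable {x : ↥CO} (hx : ∀ k : ↥KT, x * inK k = inK k * x)

include hx

theorem comm_smul (k : ↥KT) (v : ↥leechLattice) :
    (x : ↥Co0) • ((inK k : ↥Co0) • v) = (inK k : ↥Co0) • ((x : ↥Co0) • v) := by
  rw [← mul_smul, ← mul_smul, ← Subgroup.coe_mul, hx, Subgroup.coe_mul]

theorem eight_support {p q : GolayPt} (hp : p ∉ dec oct0) (hpq : q ≠ p) :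
    (((x : ↥Co0) • eightL p : ↥leechLattice) : GolayPt → ℤ) q = 0 := by
  obtain ⟨Q, hQ, hQ1⟩ := exists_one
  have hp' := out_iff.1 hp
  obtain ⟨m, hm, hmpq⟩ : ∃ m ∈ offL, m.testBit (idx p) ≠ m.testBit (idx q) := by
    by_cases hq : q ∈ dec oct0
    · obtain ⟨m, hm, hb⟩ := List.any_eq_true.1 (separate_ok ⟨idx p, idx_lt p⟩ hp').1
      refine ⟨m, hm, ?_⟩
      have : m.testBit (idx q) = false := by
        rw [← Bool.not_eq_true, ← mem_dec]
        exact Finset.disjoint_right.1 (offL_props hm).2.1 hq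
      simp only at hb
      rw [hb, this]; decide
    · obtain ⟨m, hm, hb⟩ := List.any_eq_true.1 ((separate_ok ⟨idx p, idx_lt p⟩ hp').2 ⟨idx q, idx_lt q⟩
        (out_iff.1 hq) (fun e => hpq (idx_injective (congrArg Fin.val e).symm)))
      exact ⟨m, hm, by simpa using hb⟩
  obtain ⟨k, hk⟩ := inK_smul hQ hm
  set w := (x : ↥Co0) • eightL p with hw
  have h1 : (inK k : ↥Co0) • eightL p = if m.testBit (idx p) then -eightL p else eightL p := by
    refine Subtype.ext (funext fun i => ?_)
    rw [hk, hQ1]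
    by_cases hi : i = p
    · subst hi; split_ifs <;> rfl
    · have e0 : (eightL p : GolayPt → ℤ) i = 0 := by simp [eightL, eight, hi]
      simp only [Equiv.Perm.coe_one, id_eq, e0]
      split_ifs <;> simp [e0]
  have h2 := comm_smul hx k (eightL p)
  rw [h1] at h2
  have h3 := congrFun (congrArg Subtype.val h2) q
  rw [hk, hQ1, ← hw] at h3
  have h4 : (((if m.testBit (idx p) then -w else w) : ↥leechLattice) : GolayPt → ℤ) q =
      if m.testBit (idx q) then -(w : GolayPt → ℤ) q else (w : GolayPt → ℤ) q := by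
    rw [← show (x : ↥Co0) • (if m.testBit (idx p) then -eightL p else eightL p) =
      if m.testBit (idx p) then -w else w by split_ifs <;> simp [hw, smul_neg']]
    simpa using h3
  cases hb : m.testBit (idx p) <;> cases hc : m.testBit (idx q) <;> rw [hb, hc] at hmpq h4
  · exact absurd rfl hmpq
  · simp at h4; omega
  · simp at h4; omega
  · exact absurd rfl hmpq

theorem eight_sign : ∃ s : ℤ, (s = 1 ∨ s = -1) ∧ ∀ p, p ∉ dec oct0 →
    (x : ↥Co0) • eightL p = s • eightL p := by
  have h4 : pt 4 ∉ dec oct0 := out_iff.2 (by rw [idx_pt 4 (by norm_num)]; exact move_ok.1)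
  have hsup : ∀ p, p ∉ dec oct0 →
      (x : ↥Co0) • eightL p = eightL p ∨ (x : ↥Co0) • eightL p = -eightL p := by
    intro p hp
    set w := (x : ↥Co0) • eightL p with hw
    have hn : sqNorm (w : GolayPt → ℤ) = 64 := by
      rw [hw, sqNorm_smul]; exact sqNorm_eight p
    have hsq : (w : GolayPt → ℤ) p ^ 2 = 8 ^ 2 := by
      rw [sqNorm, Finset.sum_eq_single p (fun q _ hq => by rw [eight_support hx hp hq]; norm_num)
        (fun h => absurd (Finset.mem_univ p) h)] at hn
      rw [hn]; norm_num
    rcases sq_eq_sq_iff_eq_or_eq_neg.1 hsq with e | e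
    · refine Or.inl (Subtype.ext (funext fun q => ?_))
      by_cases hq : q = p
      · subst hq; rw [e]; simp [eightL, eight]
      · rw [eight_support hx hp hq]; simp [eightL, eight, hq]
    · refine Or.inr (Subtype.ext (funext fun q => ?_))
      by_cases hq : q = p
      · subst hq; rw [e]; simp [eightL, eight]
      · rw [eight_support hx hp hq]; simp [eightL, eight, hq]
  have hmove : ∀ q, q ∉ dec oct0 → ∃ k : ↥KT, (inK k : ↥Co0) • eightL (pt 4) = eightL q := by
    intro q hq
    obtain ⟨P, hP, he⟩ := List.any_eq_true.1 (move_ok.2.2 ⟨idx q, idx_lt q⟩ (out_iff.1 hq))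
    rw [beq_iff_eq] at he
    obtain ⟨k, hk⟩ := inK_smul hP move_ok.2.1
    refine ⟨k, Subtype.ext (funext fun i => ?_)⟩
    rw [hk, if_neg (by simp)]
    have hv := valid_trans hP
    have hq4 : toPerm P q = pt 4 := idx_injective (by rw [idx_toPerm hv, idx_pt 4 (by norm_num)]; exact he)
    by_cases hi : i = q
    · subst hi; rw [hq4]; simp [eightL, eight]
    · have : toPerm P i ≠ pt 4 := fun e => hi ((toPerm P).injective (e.trans hq4.symm))
      simp [eightL, eight, hi, this]
  rcases hsup _ h4 with e | e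
  · refine ⟨1, Or.inl rfl, fun q hq => ?_⟩
    obtain ⟨k, hk⟩ := hmove q hq
    rw [one_smul, ← hk, comm_smul hx, e]
  · refine ⟨-1, Or.inr rfl, fun q hq => ?_⟩
    obtain ⟨k, hk⟩ := hmove q hq
    rw [neg_one_zsmul, ← hk, comm_smul hx, e, smul_neg']

omit hx in
theorem toO_eq_one_of_fix (f : ↥CO) (hf : ∀ p, p ∉ dec oct0 → (f : ↥Co0) • eightL p = eightL p) :
    toO f = 1 := by
  have hout : ∀ w : ↥leechLattice, (∀ p ∈ dec oct0, (w : GolayPt → ℤ) p = 0) → (f : ↥Co0) • w = w := by
    intro w hw
    have h8 : (8 : ℤ) • w = ∑ p, (w : GolayPt → ℤ) p • eightL p := by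
      refine Subtype.ext (funext fun q => ?_)
      rw [AddSubgroup.val_finsetSum, Finset.sum_apply, AddSubgroup.coe_zsmul, Pi.smul_apply, smul_eq_mul,
        Finset.sum_eq_single q]
      · simp [eightL, eight, mul_comm]
      · intro p _ hp
        simp [eightL, eight, Ne.symm hp]
      · intro h; exact absurd (Finset.mem_univ q) h
    have h : smulHom (f : ↥Co0) ((8 : ℤ) • w) = (8 : ℤ) • w := by
      rw [h8, map_sum]
      refine Finset.sum_congr rfl fun p _ => ?_
      rw [map_zsmul]
      by_cases hp : p ∈ dec oct0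
      · rw [hw p hp, zero_smul, zero_smul]
      · show _ • ((f : ↥Co0) • eightL p) = _
        rw [hf p hp]
    rw [map_zsmul] at h
    refine Subtype.ext (funext fun q => ?_)
    have := congrFun (congrArg Subtype.val h) q
    simp only [AddSubgroup.coe_zsmul, Pi.smul_apply, smul_eq_mul] at this
    exact mul_left_cancel₀ (by norm_num) this
  rw [← map_one toO, toO_eq_iff]
  intro a
  set v := lift8 a with hv
  set U : ↥leechLattice :=
    ∑ j : Fin 8, (dotInt (v : GolayPt → ℤ) (zdV j : GolayPt → ℤ) / 16) • mkV (projL.getD j.val []) with hU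
  have hD : ∀ p ∈ dec oct0, (((2 : ℤ) • U - v : ↥leechLattice) : GolayPt → ℤ) p = 0 := by
    intro p hp
    have e := congrFun (congrArg Subtype.val (expand (inO_lift8 a))) p
    rw [AddSubgroup.coe_sub, AddSubgroup.coe_zsmul, Pi.sub_apply, Pi.smul_apply, smul_eq_mul, sub_eq_zero]
    rw [← hv] at e
    rw [e, hU, AddSubgroup.val_finsetSum, AddSubgroup.val_finsetSum, Finset.sum_apply, Finset.sum_apply,
      Finset.mul_sum]
    refine Finset.sum_congr rfl fun j _ => ?_
    simp only [AddSubgroup.coe_zsmul, Pi.smul_apply, smul_eq_mul, zV, mkV_apply (good_zL j),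
      mkV_val (proj_ok j).1, vec]
    rw [← (proj_ok j).2 ⟨idx p, idx_lt p⟩ (mem_dec.1 hp)]
    ring
  have hfix := hout _ hD
  have hd : (f : ↥Co0) • v = v + (2 : ℤ) • ((f : ↥Co0) • U - U) := by
    rw [smul_sub', two_zsmul, smul_add'] at hfix
    have e : (f : ↥Co0) • v = ((f : ↥Co0) • U + (f : ↥Co0) • U) - (U + U - v) := by
      rw [← hfix, sub_sub_cancel]
    rw [e, two_zsmul]
    abel
  have hy : InO ((f : ↥Co0) • U - U) := fun p hp => by
    have e := congrFun (congrArg Subtype.val hd) p
    simp only [AddSubgroup.coe_add, AddSubgroup.coe_zsmul, Pi.add_apply, Pi.smul_apply, smul_eq_mul] at e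
    rw [inO_smul_CO f (inO_lift8 a) p hp, inO_lift8 a p hp] at e
    omega
  rw [act8_one, act8, ← hv, hd, cB_add (inO_lift8 a), cB_double hy, add_zero, cB_lift8]

theorem toO_eq_one_of_central : toO x = 1 := by
  obtain ⟨s, rfl | rfl, hs⟩ := eight_sign hx
  · exact toO_eq_one_of_fix x fun p hp => by rw [hs p hp, one_smul]
  · have h := toO_eq_one_of_fix (negO * x) fun p hp => by
      rw [Subgroup.coe_mul, mul_smul, hs p hp, show (negO : ↥Co0) = negAut from rfl, negAut_smul,
        neg_one_zsmul, neg_neg]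
    rwa [map_mul, toO_negO, one_mul] at h

end CfsgLib.Leech.Octad
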