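import Mathlib

/-!
Data: the mod-two coordinates of the lattice on the octad.
-/

set_option autoImplicit false
set_option maxRecDepth 20000

namespace CfsgLib.Leech.Octad

/-- coordinates in a hyperbolic basis -/
def hypA : List (List ℕ) := [
   [0, 1, 1, 0, 1, 0, 1, 1],
   [1, 1, 0, 1, 1, 0, 0, 0],
   [0, 0, 0, 0, 1, 0, 0, 1],
   [1, 1, 1, 1, 1, 1, 0, 1],
   [0, 0, 0, 1, 0, 0, 1, 1],
   [0, 0, 0, 0, 0, 0, 1, 0],
   [0, 0, 0, 0, 0, 1, 0, 0],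
   [1, 1, 1, 1, 1, 1, 0, 0]]

/-- the hyperbolic basis -/
def hypB : List (List ℕ) := [
   [1, 0, 0, 0, 1, 0, 1, 1],
   [1, 1, 1, 0, 0, 1, 1, 1],
   [0, 1, 0, 0, 0, 0, 1, 1],
   [0, 0, 0, 1, 1, 1, 0, 1],
   [0, 0, 1, 1, 0, 0, 0, 1],
   [0, 0, 0, 0, 0, 0, 1, 0],
   [0, 0, 0, 0, 0, 1, 0, 0],
   [0, 0, 0, 1, 0, 0, 0, 1]]

/-- a code word meeting the octad in four points -/
def signM : ℕ := 18147

/-- representatives of the two orbits -/
def orbSeeds : List ℕ := [136, 1]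

/-- class, one more than the generator used (zero for a seed), earlier position -/
def orbCert : List (ℕ × ℕ × ℕ) := [(136, 0, 0), (1, 0, 0), (138, 8, 0), (219, 2, 1), (118, 3, 1), (16, 5, 1), (157, 7, 1), (232, 1, 2),
   (253, 3, 2), (173, 6, 2), (185, 1, 3), (252, 6, 3), (217, 8, 3), (20, 1, 4), (103, 5, 4), (234, 7, 4),
   (60, 8, 4), (55, 6, 5), (255, 1, 6), (87, 4, 6), (186, 6, 6), (50, 2, 7), (34, 4, 7), (116, 7, 7),
   (162, 8, 7), (39, 2, 8), (218, 6, 8), (181, 8, 8), (119, 2, 9), (188, 5, 9), (49, 7, 9), (229, 8, 9),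
   (206, 3, 10), (115, 4, 10), (37, 7, 10), (243, 8, 10), (237, 5, 11), (96, 7, 11), (180, 8, 11), (3, 2, 12),
   (174, 3, 12), (222, 4, 13), (5, 5, 13), (51, 6, 13), (22, 8, 13), (189, 2, 14), (64, 6, 14), (45, 8, 14),
   (48, 2, 15), (32, 4, 15), (205, 6, 15), (160, 8, 15), (110, 2, 16), (195, 3, 16), (126, 4, 16), (165, 5, 16),
   (40, 7, 16), (85, 1, 17), (171, 7, 17), (125, 8, 17), (183, 8, 18), (112, 6, 19), (240, 8, 20), (69, 3, 21),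
   (248, 4, 21), (35, 5, 21), (21, 6, 21), (122, 8, 21), (106, 8, 22), (101, 5, 23), (83, 6, 23), (62, 8, 23),
   (42, 1, 24), (182, 7, 24), (54, 5, 25), (187, 7, 25), (109, 8, 25), (184, 1, 26), (203, 5, 26), (70, 7, 26),
   (216, 8, 26), (61, 1, 27), (247, 4, 27), (244, 8, 29), (251, 4, 30), (121, 8, 30), (167, 4, 31), (124, 5, 31),
   (241, 7, 31), (4, 4, 32), (82, 7, 32), (59, 8, 33), (52, 5, 34), (2, 6, 34), (111, 8, 34), (123, 1, 35),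
   (161, 2, 35), (12, 3, 35), (231, 7, 35), (170, 4, 37), (230, 2, 38), (75, 3, 38), (246, 4, 38), (97, 1, 39),
   (18, 5, 39), (36, 6, 39), (159, 7, 39), (204, 1, 40), (207, 5, 41), (249, 6, 41), (66, 7, 41), (153, 7, 42),
   (7, 8, 42), (175, 7, 43), (220, 4, 44), (33, 7, 45), (245, 8, 45), (210, 3, 47), (130, 6, 47), (250, 4, 48),
   (120, 8, 48), (104, 8, 49), (74, 1, 51), (95, 3, 51), (15, 6, 51), (132, 1, 52), (44, 4, 52), (193, 6, 52),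
   (41, 1, 53), (129, 4, 53), (90, 5, 53), (215, 7, 53), (148, 1, 54), (10, 6, 55), (194, 1, 56), (135, 6, 56),
   (225, 8, 58), (63, 4, 59), (105, 7, 59), (93, 1, 60), (72, 3, 60), (24, 6, 60), (236, 7, 61), (56, 8, 61),
   (26, 1, 62), (143, 4, 63), (84, 5, 63), (98, 6, 63), (71, 8, 63), (154, 1, 64), (233, 5, 64), (223, 6, 64),
   (100, 7, 64), (178, 8, 64), (191, 7, 65), (107, 8, 65), (137, 7, 66), (23, 8, 66), (242, 1, 67), (227, 5, 67),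
   (226, 1, 68), (149, 3, 68), (197, 6, 68), (47, 8, 69), (212, 1, 71), (108, 2, 71), (145, 6, 71), (92, 1, 73),
   (228, 2, 73), (25, 6, 73), (254, 8, 73), (17, 6, 74), (113, 4, 75), (156, 6, 75), (114, 4, 77), (169, 5, 77),
   (201, 8, 78), (140, 4, 79), (68, 8, 79), (127, 4, 81), (29, 1, 82), (166, 2, 83), (91, 6, 83), (177, 8, 84),
   (147, 1, 85), (43, 2, 85), (214, 6, 85), (77, 1, 86), (239, 8, 86), (46, 2, 87), (211, 6, 87), (27, 1, 88),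
   (163, 2, 88), (94, 6, 88), (102, 1, 89), (6, 8, 89), (67, 5, 90), (117, 6, 90), (179, 1, 91), (133, 1, 94),
   (144, 3, 94), (192, 6, 94), (14, 6, 96), (235, 8, 96), (13, 1, 98), (224, 8, 99), (164, 4, 100), (73, 6, 100),
   (9, 4, 101), (28, 1, 102), (190, 8, 102), (80, 7, 107), (155, 1, 109), (128, 2, 117), (208, 8, 117), (150, 7, 118),
   (176, 8, 119), (146, 1, 120), (8, 4, 122), (131, 6, 126), (88, 5, 127), (213, 7, 127), (134, 6, 128), (30, 7, 133),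
   (11, 1, 136), (158, 5, 145), (168, 6, 145), (19, 7, 145), (142, 2, 146), (200, 7, 146), (86, 8, 146), (141, 4, 148),
   (139, 5, 149), (152, 8, 149), (58, 1, 153), (221, 1, 154), (57, 2, 155), (196, 6, 155), (76, 6, 159), (199, 2, 161),
   (151, 2, 162), (209, 7, 162), (38, 8, 165), (172, 8, 168), (99, 5, 174), (238, 7, 174), (53, 7, 175), (79, 2, 180),
   (31, 8, 180), (89, 3, 181), (78, 3, 183), (65, 6, 194), (202, 1, 226), (81, 2, 232), (198, 3, 236)]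

/-- lattice vectors with half the basis vectors on the octad -/
def projL : List (List ℤ) := [
   [0, 0, 0, 0, 6, 0, 0, 0, 0, 2, 0, 2, 2, 0, 2, 2, 2, -2, 0, 0, 0, 0, 0, 0],
   [0, 0, 0, 0, 4, 2, 0, 2, 0, 2, 2, 2, 0, 0, 0, 2, 2, 0, 0, 0, 0, 0, 0, -2],
   [0, 0, 0, 0, 0, 2, 0, 2, 0, 2, 2, 2, 0, 0, 0, 2, 2, 0, 0, 0, 0, 0, 0, 2],
   [0, 0, 0, 2, 6, -2, 2, 2, 0, 0, 2, 0, 0, 2, 0, 2, 0, 0, 0, 0, 0, 0, 0, 0],
   [0, 0, 2, -2, 4, 0, 0, 2, 2, 2, 0, 2, 2, 0, 0, 0, 2, 0, 0, 0, 0, 0, 0, 0],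
   [0, 2, -2, 0, 4, 0, 2, 2, 2, 0, 2, 2, 0, 0, 0, 2, 0, 0, 0, 0, 0, 0, 0, 0],
   [1, -1, -1, -1, 3, -1, 1, -1, -1, 1, 1, 1, -1, 1, -1, 1, -1, 1, -1, -1, -1, -1, -1, -1],
   [-2, 0, 0, 0, 4, 0, 2, 0, 0, 2, 2, 2, 0, 2, 0, 2, 0, 2, 0, 0, 0, 0, 0, 0]]

/-- an octad disjoint from the octad -/
def octOff : ℕ := 337856

/-- a permutation sending the octad to it -/
def octOffP : ℕ := 768123229226891082689981389102948778

end CfsgLib.Leech.Octad
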