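import Cfsg.Agent.Lib.Leech.CoOneInvol.Orbit

/-!
The kernel and the image of the action of the centralizer on the classes of the octad.
-/

set_option autoImplicit false
set_option maxRecDepth 100000
set_option linter.style.haveILetI false

namespace CfsgLib.Leech.Octad

open Cfsg CfsgLib.Golay CfsgLib.Leech

attribute [local irreducible] dL bL key keyL coord packB linL bits

local notation "Q8" => Cfsg.quadFormPlus 4 (ZMod 2)

/-- the inclusion of the kernel of the symplectic action -/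
noncomputable def inK : ↥KT →* ↥CO :=
  valK.codRestrict CO fun k => Subgroup.mem_centralizer_singleton_iff.2 (comm_tO (k : ↥CT))

theorem inK_injective : Function.Injective inK := fun a b h =>
  valK_injective (show valK a = valK b from congrArg (fun g : ↥CO => (g : ↥Co0)) h)

theorem inK_fix (k : ↥KT) {v : ↥leechLattice} (hv : InO v) : (inK k : ↥Co0) • v = v := by
  obtain ⟨P, hP, m, hm, hσ, hd, he⟩ := exists_form k
  obtain ⟨g, hg, -⟩ := mem_kernel hσ hd (inM24_trans hP).2 (offL_props hm).2.1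
  show valK k • v = v
  refine Subtype.ext (funext fun p => ?_)
  have hfix : ∀ p ∈ dec oct0, toPerm P p = p :=
    (mem_fixH.1 (show toPerm P ∈ fixH M24 oct0 from
      (show fixH M24 oct0 = fixH M24 F6 from fix_oct0_eq).symm ▸ (inM24_trans hP).2)).2
  rw [he]
  show (((monoIso hσ hd).aut • v : ↥leechLattice) : GolayPt → ℤ) p = _
  rw [Iso.aut_smul]
  show monoFun _ _ _ p = _
  unfold monoFun
  by_cases hp : p ∈ dec oct0
  · rw [if_neg (Finset.disjoint_right.1 (offL_props hm).2.1 hp), hfix p hp]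
  · have hp' : toPerm P p ∉ dec oct0 := fun h => hp (by rwa [← (toPerm P).injective (hfix _ h)])
    rw [hv p hp, hv _ hp', neg_zero, ite_self]

/-- the negation -/
noncomputable def negO : ↥CO := ⟨negAut, negAut_mem⟩

theorem cB_neg {v : ↥leechLattice} (hv : InO v) : cB (-v) = cB v := by
  have h := cB_add (v := v) (w := -v) hv
  rw [add_neg_cancel, show cB (0 : ↥leechLattice) = 0 by
    have := cB_double InO.zero; rwa [smul_zero] at this] at h
  rw [← neg_eq_of_add_eq_zero_right h.symm]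
  exact funext fun k => CharTwo.neg_eq _

theorem edges_ok : ∀ p ∈ ([(0, 6), (6, 2), (2, 3), (3, 1), (3, 4), (4, 5), (0, 7)] : List (Fin 8 × Fin 8)),
    dotL (zL.getD p.1.val []) (zL.getD p.2.val []) ≠ 0 := by decide +kernel

theorem roots_ok : ∀ j : Fin 8, dotL (zL.getD j.val []) (zL.getD j.val []) = 32 := by decide +kernel

theorem sqNorm_zV8 (j : Fin 8) : sqNorm (zV j : GolayPt → ℤ) = 32 := by
  rw [sqNorm_eq_dotInt, zV, dot_mkV (goodL_inL (good_zL j)) (goodL_inL (good_zL j)), roots_ok]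

theorem sign_of_trivial {g : ↥CO} (h : toO g = 1) :
    ∃ c : ℤ, (c = 1 ∨ c = -1) ∧ ∀ v, InO v → (g : ↥Co0) • v = c • v := by
  have hz : ∀ j, ∃ c : ℤ, (c = 1 ∨ c = -1) ∧ (g : ↥Co0) • zV j = c • zV j := by
    intro j
    have h1 : cB ((g : ↥Co0) • zV j) = cB (zV j) := by
      rw [← act8_cB g (InO.zV j), toO_eq_iff.1 (h.trans (map_one toO).symm), act8_one]
    rcases eq_or_neg_of_key (by rw [sqNorm_zV8]; norm_num) (by rw [sqNorm_smul, sqNorm_zV8]; norm_num)
        (key_of_cB (InO.zV j) (inO_smul_CO g (InO.zV j)) h1.symm) with e | e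
    · exact ⟨1, Or.inl rfl, by rw [one_smul, e]⟩
    · exact ⟨-1, Or.inr rfl, by rw [neg_one_zsmul, e]⟩
  choose c hc hcs using hz
  have hedge : ∀ p ∈ ([(0, 6), (6, 2), (2, 3), (3, 1), (3, 4), (4, 5), (0, 7)] : List (Fin 8 × Fin 8)),
      c p.1 = c p.2 := by
    intro p hp
    have h := dotInt_smul (g : ↥Co0) (zV p.1) (zV p.2)
    rw [hcs, hcs, AddSubgroup.coe_zsmul, AddSubgroup.coe_zsmul, dotInt_smul_left, dotInt_comm,
      dotInt_smul_left, dotInt_comm, zV, zV, dot_mkV (goodL_inL (good_zL _)) (goodL_inL (good_zL _))] at h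
    have hne := edges_ok p hp
    rcases hc p.1 with h1 | h1 <;> rcases hc p.2 with h2 | h2 <;> rw [h1, h2] at h ⊢ <;> omega
  have hall : ∀ j, c j = c 0 := by
    intro j
    have h06 := hedge (0, 6) (by simp)
    have h62 := hedge (6, 2) (by simp)
    have h23 := hedge (2, 3) (by simp)
    have h31 := hedge (3, 1) (by simp)
    have h34 := hedge (3, 4) (by simp)
    have h45 := hedge (4, 5) (by simp)
    have h07 := hedge (0, 7) (by simp)
    simp only at h06 h62 h23 h31 h34 h45 h07
    fin_cases j <;> simp_all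
  refine ⟨c 0, hc 0, fun v hv => ?_⟩
  conv_lhs => rw [expand hv]
  rw [show (g : ↥Co0) • (∑ j, _ : ↥leechLattice) = smulHom (g : ↥Co0) _ from rfl, map_sum]
  conv_rhs => rw [expand hv, Finset.smul_sum]
  refine Finset.sum_congr rfl fun j _ => ?_
  rw [map_zsmul]
  show _ • ((g : ↥Co0) • zV j) = _
  rw [hcs, hall, smul_comm]

theorem kernel_spec {g : ↥CO} (h : toO g = 1) : ∃ k : ↥KT, g = inK k ∨ g = negO * inK k := by
  have main : ∀ f : ↥CO, (∀ v, InO v → (f : ↥Co0) • v = v) → ∃ k : ↥KT, f = inK k := by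
    intro f hf
    have hC : (⟨(f : ↥Co0), hf _ InO.uV⟩ : ↥SU) ∈ CT :=
      Subgroup.mem_centralizer_singleton_iff.2 (Subtype.ext (Subgroup.mem_centralizer_singleton_iff.1 f.2))
    exact ⟨⟨⟨_, hC⟩, MonoidHom.mem_ker.2 (toSp_eq_one_iff.2 fun v hv => by
      rw [show auto ⟨⟨(f : ↥Co0), hf _ InO.uV⟩, hC⟩ • v = v from hf v hv.1])⟩, rfl⟩
  obtain ⟨c, hc | hc, hcs⟩ := sign_of_trivial h
  · obtain ⟨k, hk⟩ := main g fun v hv => by rw [hcs v hv, hc, one_smul]
    exact ⟨k, Or.inl hk⟩
  · obtain ⟨k, hk⟩ := main (negO⁻¹ * g) fun v hv => by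
      show ((negAut)⁻¹ * (g : ↥Co0)) • v = v
      rw [mul_smul, hcs v hv, hc, neg_one_zsmul, ← negAut_smul, inv_smul_smul]
    exact ⟨k, Or.inr (by rw [← hk, mul_inv_cancel_left])⟩

theorem toO_inK (k : ↥KT) : toO (inK k) = 1 := by
  rw [← map_one toO, toO_eq_iff]
  intro a
  rw [act8_one, act8, inK_fix k (inO_lift8 a), cB_lift8]

theorem toO_negO : toO negO = 1 := by
  rw [← map_one toO, toO_eq_iff]
  intro a
  rw [act8_one, act8, show (negO : ↥Co0) = negAut from rfl, negAut_smul, cB_neg (inO_lift8 a), cB_lift8]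

theorem negO_mul_ne (a b : ↥KT) : negO * inK a ≠ inK b := by
  intro h
  have e := congrArg (fun g : ↥CO => (g : ↥Co0) • uV) h
  simp only [Subgroup.coe_mul, mul_smul, inK_fix _ InO.uV] at e
  rw [show (negO : ↥Co0) = negAut from rfl, negAut_smul, neg_eq_iff_add_eq_zero, ← two_nsmul] at e
  have e' : (uV : ↥leechLattice) = 0 := Subtype.ext (funext fun p => by
    have := congrFun (congrArg Subtype.val e) p
    simpa using this)
  have := sqNorm_uV
  rw [e'] at this
  simp [sqNorm] at this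

theorem natCard_ker : Nat.card toO.ker = 2 ^ 10 := by
  let f : ↥KT × Bool → toO.ker := fun p => ⟨cond p.2 (negO * inK p.1) (inK p.1), MonoidHom.mem_ker.2 (by
    rcases p with ⟨k, b⟩
    cases b <;> simp [toO_inK, toO_negO])⟩
  rw [← Nat.card_eq_of_bijective f ⟨fun p q h => ?_, fun g => ?_⟩, Nat.card_prod, natCard_KT,
    Nat.card_eq_fintype_card, Fintype.card_bool]
  · norm_num
  · rcases p with ⟨a, b⟩; rcases q with ⟨a', b'⟩
    have h' : cond b (negO * inK a) (inK a) = cond b' (negO * inK a') (inK a') := congrArg Subtype.val h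
    cases b <;> cases b' <;> simp only [cond_true, cond_false] at h'
    · rw [inK_injective h']
    · exact absurd h'.symm (negO_mul_ne _ _)
    · exact absurd h' (negO_mul_ne _ _)
    · rw [inK_injective (mul_left_cancel h')]
  · obtain ⟨k, hk | hk⟩ := kernel_spec (MonoidHom.mem_ker.1 g.2)
    · exact ⟨(k, false), Subtype.ext hk.symm⟩
    · exact ⟨(k, true), Subtype.ext hk.symm⟩

/-- the image is the simple orthogonal group -/
theorem range_toO : toO.range = Cfsg.Omega (ZMod 2) Q8 := by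
  haveI : Finite ↥Co0 := finite_Co0
  let Q : QuadraticForm (ZMod 2) (J8 → ZMod 2) := CfsgLib.Orth.plusQ 4
  have hQ : ⇑Q = Q8 := CfsgLib.Orth.plusQ_coe 4
  have hB : CfsgLib.Orth.Nondeg Q := CfsgLib.Orth.plusQ_nondeg 4
  have hcard : Nat.card (Cfsg.isometryGroup (ZMod 2) Q8) = 348364800 := by
    rw [← hQ]
    show Nat.card (CfsgLib.Orth.Grp Q) = _
    rw [CfsgLib.Orth.card_orth_plus 4 (by norm_num) hQ hB, Nat.card_zmod]
    norm_num [Finset.prod_range_succ]
  have hidx : (Cfsg.Omega (ZMod 2) Q8).index = 2 := by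
    rw [← hQ]
    exact CfsgLib.Orth.index_omega_two hB rfl (by simp) (fun h => by simp at h)
  have hr : Nat.card toO.range * 2 ^ 10 = 240 * (2 ^ 9 * 1451520) := by
    rw [← natCard_ker, ← natCard_CO, Subgroup.card_eq_card_quotient_mul_card_subgroup toO.ker,
      Nat.card_congr (QuotientGroup.quotientKerEquivRange toO).toEquiv]
  have h1 := Subgroup.card_mul_index toO.range
  rw [hcard] at h1
  have h2 : toO.range.index = 2 := by
    have h3 : Nat.card toO.range = 174182400 := by omega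
    rw [h3] at h1
    omega
  haveI := Subgroup.normal_of_index_eq_two h2
  haveI : Fact (Nat.Prime 2) := ⟨Nat.prime_two⟩
  haveI : IsCyclic (Cfsg.isometryGroup (ZMod 2) Q8 ⧸ toO.range) :=
    isCyclic_of_prime_card (p := 2) h2
  letI := IsCyclic.commGroup (α := Cfsg.isometryGroup (ZMod 2) Q8 ⧸ toO.range)
  have hle : Cfsg.Omega (ZMod 2) Q8 ≤ toO.range := by
    refine le_trans (Abelianization.commutator_subset_ker (QuotientGroup.mk' toO.range)) ?_
    rw [QuotientGroup.ker_mk']
  haveI : Finite (Cfsg.isometryGroup (ZMod 2) Q8) := inferInstance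
  refine (Subgroup.eq_of_le_of_card_ge hle (le_of_eq ?_)).symm
  have h4 := Subgroup.card_mul_index (Cfsg.Omega (ZMod 2) Q8)
  have h5 := Subgroup.card_mul_index toO.range
  rw [hidx] at h4
  rw [h2, ← h4] at h5
  omega

end CfsgLib.Leech.Octad
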