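import Cfsg.Agent.Lib.Leech.CoOneInvol.Space
import Cfsg.Agent.Lib.Classical.OrthOrderStd
import Cfsg.Agent.Lib.Classical.OmegaOnto
import Cfsg.Agent.Lib.Classical.SympOrder

/-!
The centralizer of the octad involution: orbits on classes, order, and image in the orthogonal group.
-/

set_option autoImplicit false
set_option maxRecDepth 100000
set_option linter.style.haveILetI false

namespace CfsgLib.Leech.Octad

open Cfsg CfsgLib.Golay CfsgLib.Leech

attribute [local irreducible] dL bL key keyL coord packB linL bits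

/-- a class by its bit pattern -/
def vecN (n : ℕ) : J8 → ZMod 2 := fun k => if n.testBit (pos8 k).val then 1 else 0

/-- the class of a coordinate list -/
def czL (l : List ℤ) : J8 → ZMod 2 :=
  hA.mulVec fun j : Fin 8 => ((dotL l (zdL.getD j.val []) / 16 : ℤ) : ZMod 2)

theorem cB_mkV {l : List ℤ} (h : inL l = true) : cB (mkV l) = czL l := by
  rw [cB, czL]
  congr 1
  funext j
  rw [cz, bl, zdV, dot_mkV h (goodL_inL (good_zdL j))]

/-- sign change on a code word -/
def signL (l : List ℤ) : List ℤ :=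
  (List.range 24).map fun i => if signM.testBit i then -l.getD i 0 else l.getD i 0

/-- image of a list under one generator -/
def genImg (k : ℕ) (l : List ℤ) : List ℤ := if k < 7 then imgL (liftW k) l else signL l

/-- one step of the certificate -/
def stepOK (i : ℕ) : Bool :=
  let e := orbCert.getD i (0, 0, 0)
  if e.2.1 = 0 then decide (e.1 ∈ orbSeeds)
  else decide (e.2.1 - 1 < 8) && decide (e.2.2 < i) &&
    inL (genImg (e.2.1 - 1) (combL (vecN (orbCert.getD e.2.2 (0, 0, 0)).1))) &&
    decide (czL (genImg (e.2.1 - 1) (combL (vecN (orbCert.getD e.2.2 (0, 0, 0)).1))) = vecN e.1)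

theorem steps_ok : (List.range orbCert.length).all stepOK = true := by decide +kernel

theorem cover_ok : ∀ a : J8 → ZMod 2, a = 0 ∨
    (List.range orbCert.length).any (fun i => decide (vecN (orbCert.getD i (0, 0, 0)).1 = a)) = true := by
  decide +kernel

theorem seeds_ok : orbSeeds.all (fun s =>
      decide (vecN s = if Cfsg.quadFormPlus 4 (ZMod 2) (vecN s) = 1 then vecN 136 else vecN 1)) = true ∧
    czL uL = vecN 136 ∧ inC signM = true ∧
    Cfsg.quadFormPlus 4 (ZMod 2) (vecN 136) = 1 ∧ Cfsg.quadFormPlus 4 (ZMod 2) (vecN 1) = 0 := by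
  decide +kernel

theorem exists_gen (k : ℕ) (hk : k < 8) : ∃ g : ↥CO, ∀ l, inL l = true → inL (genImg k l) = true →
    (g : ↥Co0) • mkV l = mkV (genImg k l) := by
  rcases Nat.lt_or_ge k 7 with h | h
  · obtain ⟨g, hg⟩ := exists_lift ⟨k, h⟩
    refine ⟨⟨auto g, Subgroup.mem_centralizer_singleton_iff.2 (comm_tO g)⟩, fun l hl hl' => Subtype.ext ?_⟩
    rw [mkV_val hl', genImg, if_pos h]
    exact hg l hl
  · have hd : dec signM ∈ CS := ⟨_, wd_mem_of_inC seeds_ok.2.2.1, support_wd _⟩
    refine ⟨⟨mono (one_mem M24) hd, Subgroup.mem_centralizer_singleton_iff.2 (aut_ext fun v =>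
      Subtype.ext (funext fun p => ?_))⟩, fun l hl hl' => Subtype.ext (funext fun p => ?_)⟩
    · rw [mul_smul, mul_smul, tO_smul, mono, Iso.aut_smul, Iso.aut_smul]
      show monoFun 1 _ _ p = if p ∈ dec oct0 then monoFun 1 _ _ p else -monoFun 1 _ _ p
      simp only [monoFun, Equiv.Perm.coe_one, id_eq, tO_smul]
      split_ifs <;> rfl
    · rw [mkV_val hl', genImg, if_neg (not_lt.2 h)]
      show (((monoIso (one_mem M24) hd).aut • mkV l : ↥leechLattice) : GolayPt → ℤ) p = _
      rw [Iso.aut_smul]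
      show monoFun 1 _ _ p = _
      simp only [monoFun, Equiv.Perm.coe_one, id_eq, mem_dec, mkV_val hl, vec, signL]
      rw [List.getD_eq_getElem ((List.range 24).map _) _ (by simpa using idx_lt p), List.getElem_map,
        List.getElem_range]

theorem reach_cert : ∀ i < orbCert.length, ∃ s ∈ orbSeeds, ∃ g : ↥CO,
    act8 g (vecN s) = vecN (orbCert.getD i (0, 0, 0)).1 := by
  intro i
  induction i using Nat.strong_induction_on with
  | _ i ih =>
    intro hi
    have h := List.all_eq_true.1 steps_ok i (List.mem_range.2 hi)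
    simp only [stepOK] at h
    split at h
    · exact ⟨_, of_decide_eq_true h, 1, act8_one _⟩
    · simp only [Bool.and_eq_true, decide_eq_true_eq] at h
      obtain ⟨⟨⟨hk, hlt⟩, hin⟩, he⟩ := h
      obtain ⟨s, hs, g, hg⟩ := ih _ hlt (hlt.trans hi)
      obtain ⟨f, hf⟩ := exists_gen _ hk
      refine ⟨s, hs, f * g, ?_⟩
      rw [act8_mul, hg, ← he, act8, lift8, hf _ (goodL_inL (comb_ok _).1) hin, cB_mkV hin]

/-- the two orbits on nonzero classes -/
theorem exists_act8 {a : J8 → ZMod 2} (ha : a ≠ 0) : ∃ g : ↥CO,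
    act8 g (if Cfsg.quadFormPlus 4 (ZMod 2) a = 1 then vecN 136 else vecN 1) = a := by
  obtain ⟨i, hi, he⟩ := List.any_eq_true.1 ((cover_ok a).resolve_left ha)
  rw [List.mem_range] at hi
  obtain ⟨s, hs, g, hg⟩ := reach_cert i hi
  rw [of_decide_eq_true he] at hg
  refine ⟨g, ?_⟩
  have hq := quad_act8 g (vecN s)
  rw [hg] at hq
  rw [hq, ← of_decide_eq_true (List.all_eq_true.1 seeds_ok.1 s hs), hg]

theorem key_of_cB {u v : ↥leechLattice} (hu : InO u) (hv : InO v) (h : cB u = cB v) :
    key (u : GolayPt → ℤ) = key (v : GolayPt → ℤ) := by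
  obtain ⟨z, -, he⟩ := exists_lift8 hu
  obtain ⟨y, -, hf⟩ := exists_lift8 hv
  rw [he, hf, key_add_two, key_add_two, h]

theorem sqNorm_uV : sqNorm (uV : GolayPt → ℤ) = 32 := by
  rw [sqNorm_eq_dotInt, uV, dot_mkV (goodL_inL good_ok.1) (goodL_inL good_ok.1), unit_ok.2.2.1]

theorem cB_uV : cB uV = vecN 136 := by
  rw [uV, cB_mkV (goodL_inL good_ok.1), seeds_ok.2.1]

theorem negAut_mem : negAut ∈ CO :=
  Subgroup.mem_centralizer_singleton_iff.2 (Subgroup.mem_center_iff.1 negAut_mem_center tO).symm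

theorem card_ns : Nat.card {a : J8 → ZMod 2 // Cfsg.quadFormPlus 4 (ZMod 2) a = 1} = 120 := by
  rw [Nat.card_eq_fintype_card, Fintype.card_subtype]
  decide +kernel

theorem natCard_CT : Nat.card ↥CT = 2 ^ 9 * 1451520 := by
  rw [Subgroup.card_eq_card_quotient_mul_card_subgroup KT, natCard_KT,
    Nat.card_congr (QuotientGroup.quotientKerEquivOfSurjective toSp toSp_surjective).toEquiv,
    CfsgLib.Classical.SympTrans.card_symplectic, Nat.card_zmod]
  norm_num [Finset.prod_range_succ]

theorem natCard_CO : Nat.card ↥CO = 240 * (2 ^ 9 * 1451520) := by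
  have hst : Nat.card (MulAction.stabilizer ↥CO uV) = Nat.card ↥CT := by
    refine Nat.card_congr {
      toFun := fun g => ⟨⟨((g : ↥CO) : ↥Co0), g.2⟩,
        Subgroup.mem_centralizer_singleton_iff.2 (Subtype.ext (Subgroup.mem_centralizer_singleton_iff.1 g.1.2))⟩
      invFun := fun g => ⟨⟨auto g, Subgroup.mem_centralizer_singleton_iff.2 (comm_tO g)⟩, g.1.2⟩
      left_inv := fun _ => rfl
      right_inv := fun _ => rfl }
  have hor : Nat.card (MulAction.orbit ↥CO uV) = 240 := by
    have hex : ∀ a : {a : J8 → ZMod 2 // Cfsg.quadFormPlus 4 (ZMod 2) a = 1},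
        ∃ g : ↥CO, cB ((g : ↥Co0) • uV) = a.1 := by
      intro a
      obtain ⟨g, hg⟩ := exists_act8 (a := a.1) (fun h => by
        have h1 := a.2
        rw [h] at h1
        simp [Cfsg.quadFormPlus] at h1)
      rw [if_pos a.2, ← cB_uV, act8_cB g InO.uV] at hg
      exact ⟨g, hg⟩
    choose g hg using hex
    let n : ↥CO := ⟨negAut, negAut_mem⟩
    let f : {a : J8 → ZMod 2 // Cfsg.quadFormPlus 4 (ZMod 2) a = 1} × Bool →
        MulAction.orbit ↥CO uV :=
      fun p => ⟨((cond p.2 (n * g p.1) (g p.1) : ↥CO) : ↥Co0) • uV, ⟨_, rfl⟩⟩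
    have hn : ∀ v : ↥leechLattice, InO v → cB (negAut • v) = cB v := fun v hv => by
      have h := cB_add (v := v) (w := -v) hv
      rw [add_neg_cancel, show cB (0 : ↥leechLattice) = 0 by
        have := cB_double InO.zero; rwa [smul_zero] at this] at h
      rw [negAut_smul, ← neg_eq_of_add_eq_zero_right h.symm]
      exact funext fun k => CharTwo.neg_eq _
    have hval : ∀ p, cB ((f p : ↥leechLattice)) = p.1.1 := fun p => by
      rcases p with ⟨a, b⟩
      cases b
      · exact hg a
      · show cB ((negAut * (g a : ↥Co0)) • uV) = _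
        rw [mul_smul, hn _ (inO_smul_CO _ InO.uV), hg a]
    rw [← Nat.card_eq_of_bijective f ⟨fun p q h => ?_, fun w => ?_⟩, Nat.card_prod, card_ns,
      Nat.card_eq_fintype_card, Fintype.card_bool]
    · have h1 : p.1 = q.1 := Subtype.ext (by rw [← hval p, ← hval q, h])
      rcases p with ⟨a, b⟩; rcases q with ⟨a', b'⟩
      simp only at h1; subst h1
      have h2 : ((cond b (n * g a) (g a) : ↥CO) : ↥Co0) • uV =
          ((cond b' (n * g a) (g a) : ↥CO) : ↥Co0) • uV := congrArg Subtype.val h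
      have hne : negAut • ((g a : ↥Co0) • uV) ≠ (g a : ↥Co0) • uV := fun e => by
        rw [negAut_smul, neg_eq_iff_add_eq_zero, ← two_nsmul] at e
        have e' : (g a : ↥Co0) • uV = 0 := Subtype.ext (funext fun p => by
          have := congrFun (congrArg Subtype.val e) p
          simpa using this)
        have := sqNorm_smul (g a : ↥Co0) uV
        rw [e', sqNorm_uV] at this
        simp [sqNorm] at this
      cases b <;> cases b' <;> try rfl
      · exact absurd ((mul_smul negAut (g a : ↥Co0) uV).symm.trans h2.symm) hne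
      · exact absurd ((mul_smul negAut (g a : ↥Co0) uV).symm.trans h2) hne
    · obtain ⟨w, h, rfl⟩ := w
      have hw : InO ((h : ↥Co0) • uV) := inO_smul_CO h InO.uV
      have hq : Cfsg.quadFormPlus 4 (ZMod 2) (cB ((h : ↥Co0) • uV)) = 1 := by
        rw [← act8_cB h InO.uV, quad_act8, cB_uV, seeds_ok.2.2.2.1]
      have hk := key_of_cB (inO_smul_CO (g ⟨_, hq⟩) InO.uV) hw (hg ⟨_, hq⟩)
      rcases eq_or_neg_of_key (by rw [sqNorm_smul, sqNorm_uV]; norm_num)
          (by rw [sqNorm_smul, sqNorm_uV]; norm_num) hk with e | e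
      · exact ⟨(⟨_, hq⟩, false), Subtype.ext e.symm⟩
      · refine ⟨(⟨_, hq⟩, true), Subtype.ext ?_⟩
        show (negAut * (g ⟨_, hq⟩ : ↥Co0)) • uV = (h : ↥Co0) • uV
        rw [mul_smul, negAut_smul]
        exact e.symm
  rw [← Subgroup.card_mul_index (MulAction.stabilizer ↥CO uV), MulAction.index_stabilizer, hst,
    natCard_CT, ← Nat.card_coe_set_eq, hor, mul_comm]

end CfsgLib.Leech.Octad
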