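import Cfsg.Agent.Lib.Leech.Octad.Surj
import Cfsg.Agent.Lib.Leech.CoOneInvol.Data

/-!
The lattice on an octad modulo two as an orthogonal space, and the action of the centralizer of the
sign change off the octad.
-/

set_option autoImplicit false
set_option maxRecDepth 20000

namespace CfsgLib.Leech.Octad

open Cfsg CfsgLib.Golay CfsgLib.Leech

attribute [local irreducible] dL bL key keyL coord packB linL bits

/-- the index type of the coordinates -/
abbrev J8 : Type := Fin 4 ⊕ Fin 4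

/-- the position of a coordinate -/
def pos8 : J8 → Fin 8
  | .inl i => ⟨i.val, by omega⟩
  | .inr i => ⟨4 + i.val, by omega⟩

/-- the change to hyperbolic coordinates -/
def hA : Matrix J8 (Fin 8) (ZMod 2) := Matrix.of fun k j => ((hypA.getD (pos8 k).val []).getD j.val 0 : ℕ)

/-- the hyperbolic basis -/
def hB : Matrix (Fin 8) J8 (ZMod 2) := Matrix.of fun j k => ((hypB.getD j.val []).getD (pos8 k).val 0 : ℕ)

theorem hB_hA : hB * hA = 1 := by decide +kernel

/-- coordinates in the basis of the octad modulo two -/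
noncomputable def cz (v : ↥leechLattice) : Fin 8 → ZMod 2 := fun j => bl v (zdV j)

/-- hyperbolic coordinates -/
noncomputable def cB (v : ↥leechLattice) : J8 → ZMod 2 := hA.mulVec (cz v)

/-- half the norm in the usual scaling, modulo two -/
noncomputable def qv (v : ↥leechLattice) : ZMod 2 := ((sqNorm (v : GolayPt → ℤ) / 32 : ℤ) : ZMod 2)

theorem dvd_sqNorm {v : ↥leechLattice} (hv : InO v) : (32 : ℤ) ∣ sqNorm (v : GolayPt → ℤ) := by
  obtain ⟨e, a, ha, ⟨s, hs⟩⟩ := hv.shape
  have h2 : (2 : ℤ) ∣ ∑ p ∈ dec oct0, a p * a p := by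
    have h : (2 : ℤ) ∣ ∑ p ∈ dec oct0, (a p * a p - a p) := Finset.dvd_sum fun p _ => by
      rw [show a p * a p - a p = a p * (a p - 1) by ring]
      exact (Int.even_mul_pred_self _).two_dvd
    rw [Finset.sum_sub_distrib, hs] at h
    obtain ⟨t, ht⟩ := h
    exact ⟨t + s, by linarith⟩
  obtain ⟨t, ht⟩ := h2
  refine ⟨e * e + e * s + t, ?_⟩
  rw [sqNorm_eq_dotInt, show dotInt (v : GolayPt → ℤ) (v : GolayPt → ℤ) =
      ∑ p, (v : GolayPt → ℤ) p * (v : GolayPt → ℤ) p from rfl,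
    ← Finset.sum_subset (Finset.subset_univ (dec oct0)) fun p _ hp => by rw [hv p hp, zero_mul]]
  calc ∑ p ∈ dec oct0, (v : GolayPt → ℤ) p * (v : GolayPt → ℤ) p
      = ∑ p ∈ dec oct0, (4 * e * e + 16 * e * a p + 16 * (a p * a p)) :=
        Finset.sum_congr rfl fun p hp => by rw [ha p hp]; ring
    _ = _ := by
      rw [Finset.sum_add_distrib, Finset.sum_add_distrib]
      simp only [← Finset.mul_sum]
      rw [Finset.sum_const, card_oct0, hs, ht]
      simp only [nsmul_eq_mul]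
      push_cast
      ring

theorem cz_add {v w : ↥leechLattice} (hv : InO v) : cz (v + w) = cz v + cz w :=
  funext fun j => bl_add_left hv (InO.zdV j)

theorem cB_add {v w : ↥leechLattice} (hv : InO v) : cB (v + w) = cB v + cB w := by
  rw [cB, cz_add hv, Matrix.mulVec_add, cB, cB]

theorem eq_double {r : ↥leechLattice} (hr : InO r) (h : cB r = 0) :
    ∃ z, InO z ∧ r = (2 : ℤ) • z := by
  have hc : cz r = 0 := by
    have e := congrArg hB.mulVec h
    rwa [cB, Matrix.mulVec_mulVec, hB_hA, Matrix.one_mulVec, Matrix.mulVec_zero] at e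
  have he : ∀ j : Fin 8, (2 : ℤ) ∣ dotInt (r : GolayPt → ℤ) (zdV j : GolayPt → ℤ) / 16 := fun j =>
    (ZMod.intCast_zmod_eq_zero_iff_dvd _ 2).1 (congrFun hc j)
  choose n hn using he
  refine ⟨∑ j, n j • zV j, InO.sum _ _ fun j _ => (InO.zV j).zsmul _, ?_⟩
  conv_lhs => rw [expand hr]
  rw [Finset.smul_sum]
  exact Finset.sum_congr rfl fun j _ => by rw [hn j, mul_smul]

theorem cB_double {z : ↥leechLattice} (hz : InO z) : cB ((2 : ℤ) • z) = 0 := by
  rw [show (2 : ℤ) • z = z + z from two_zsmul z, cB_add hz]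
  exact funext fun k => CharTwo.add_self_eq_zero _

theorem qv_add {v w : ↥leechLattice} (hv : InO v) (hw : InO w) :
    qv (v + w) = qv v + qv w + bl v w := by
  obtain ⟨a, ha⟩ := dvd_sqNorm hv
  obtain ⟨b, hb⟩ := dvd_sqNorm hw
  obtain ⟨c, hc⟩ := hv.dvd_dot hw
  have h : sqNorm ((v + w : ↥leechLattice) : GolayPt → ℤ) = 32 * (a + b + c) := by
    rw [sqNorm_eq_dotInt, AddSubgroup.coe_add, dotInt_add_left', dotInt_comm (v : GolayPt → ℤ),
      dotInt_comm (w : GolayPt → ℤ), dotInt_add_left', dotInt_add_left', ← sqNorm_eq_dotInt,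
      ← sqNorm_eq_dotInt, dotInt_comm (w : GolayPt → ℤ) (v : GolayPt → ℤ), ha, hb, hc]
    ring
  rw [qv, qv, qv, bl, h, ha, hb, hc, Int.mul_ediv_cancel_left _ (by norm_num),
    Int.mul_ediv_cancel_left _ (by norm_num), Int.mul_ediv_cancel_left _ (by norm_num),
    Int.mul_ediv_cancel_left _ (by norm_num)]
  push_cast
  ring

theorem qv_add_double {v z : ↥leechLattice} (hv : InO v) (hz : InO z) :
    qv (v + (2 : ℤ) • z) = qv v := by
  have h4 : qv ((2 : ℤ) • z) = 0 := by
    rw [two_zsmul, qv_add hz hz]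
    obtain ⟨a, ha⟩ := dvd_sqNorm hz
    rw [bl, ← sqNorm_eq_dotInt, ha, show (32 : ℤ) * a = 16 * (2 * a) by ring,
      Int.mul_ediv_cancel_left _ (by norm_num)]
    push_cast
    rw [show (2 : ZMod 2) = 0 from rfl, zero_mul, add_zero]
    exact CharTwo.add_self_eq_zero _
  rw [qv_add hv (hz.zsmul _), h4, bl_comm, bl_zsmul_left hz hv,
    show ((2 : ℤ) : ZMod 2) = 0 from rfl]
  simp

/-- the coordinate list of a combination -/
def combL (a : J8 → ZMod 2) : List ℤ :=
  (List.range 24).map fun i => ∑ j : Fin 8, (((hB.mulVec a) j).val : ℤ) * (zL.getD j.val []).getD i 0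

/-- the standard lift of a class -/
noncomputable def lift8 (a : J8 → ZMod 2) : ↥leechLattice := mkV (combL a)

theorem comb_ok : ∀ a : J8 → ZMod 2, goodL (combL a) = true ∧
    hA.mulVec (fun j : Fin 8 => ((dotL (combL a) (zdL.getD j.val []) / 16 : ℤ) : ZMod 2)) = a ∧
    ((dotL (combL a) (combL a) / 32 : ℤ) : ZMod 2) = Cfsg.quadFormPlus 4 (ZMod 2) a := by
  decide +kernel

theorem inO_lift8 (a : J8 → ZMod 2) : InO (lift8 a) := InO.mkV (comb_ok a).1

theorem cB_lift8 (a : J8 → ZMod 2) : cB (lift8 a) = a := by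
  conv_rhs => rw [← (comb_ok a).2.1]
  rw [cB]
  congr 1
  funext j
  rw [cz, bl, lift8, zdV, dot_mkV (goodL_inL (comb_ok a).1) (goodL_inL (good_zdL j))]

theorem qv_lift8 (a : J8 → ZMod 2) : qv (lift8 a) = Cfsg.quadFormPlus 4 (ZMod 2) a := by
  rw [qv, sqNorm_eq_dotInt, lift8, dot_mkV (goodL_inL (comb_ok a).1) (goodL_inL (comb_ok a).1),
    (comb_ok a).2.2]

theorem exists_lift8 {v : ↥leechLattice} (hv : InO v) :
    ∃ z, InO z ∧ v = lift8 (cB v) + (2 : ℤ) • z := by
  have hr : InO (v - lift8 (cB v)) := hv.sub (inO_lift8 _)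
  obtain ⟨z, hz, he⟩ := eq_double hr (by
    have h := cB_add (v := v - lift8 (cB v)) (w := lift8 (cB v)) hr
    rw [sub_add_cancel, cB_lift8] at h
    exact add_eq_right.1 h.symm)
  exact ⟨z, hz, by rw [← he, add_sub_cancel]⟩

theorem quad_cB {v : ↥leechLattice} (hv : InO v) : Cfsg.quadFormPlus 4 (ZMod 2) (cB v) = qv v := by
  obtain ⟨z, hz, he⟩ := exists_lift8 hv
  conv_rhs => rw [he]
  rw [qv_add_double (inO_lift8 _) hz, qv_lift8]

/-- the centralizer of the sign change off the octad -/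
noncomputable abbrev CO : Subgroup ↥Co0 := Subgroup.centralizer ({tO} : Set ↥Co0)

theorem inO_smul_CO (g : ↥CO) {v : ↥leechLattice} (hv : InO v) : InO ((g : ↥Co0) • v) := by
  rw [inO_iff, ← mul_smul, ← Subgroup.mem_centralizer_singleton_iff.1 g.2, mul_smul, inO_iff.1 hv]

theorem qv_smul (g : ↥Co0) (v : ↥leechLattice) : qv (g • v) = qv v := by
  rw [qv, qv, sqNorm_smul]

theorem cB_smul_congr (g : ↥CO) {v w : ↥leechLattice} (hv : InO v) (hw : InO w) (h : cB v = cB w) :
    cB ((g : ↥Co0) • v) = cB ((g : ↥Co0) • w) := by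
  obtain ⟨z, hz, he⟩ := exists_lift8 hv
  obtain ⟨y, hy, hf⟩ := exists_lift8 hw
  have key : ∀ u, InO u → ∀ z, InO z →
      cB ((g : ↥Co0) • (u + (2 : ℤ) • z)) = cB ((g : ↥Co0) • u) := fun u hu z hz => by
    rw [smul_add', cB_add (inO_smul_CO g hu), two_zsmul, smul_add', ← two_zsmul,
      cB_double (inO_smul_CO g hz), add_zero]
  rw [he, hf, key _ (inO_lift8 _) _ hz, key _ (inO_lift8 _) _ hy, h]

/-- the action on classes -/
noncomputable def act8 (g : ↥CO) (a : J8 → ZMod 2) : J8 → ZMod 2 := cB ((g : ↥Co0) • lift8 a)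

theorem act8_cB (g : ↥CO) {v : ↥leechLattice} (hv : InO v) :
    act8 g (cB v) = cB ((g : ↥Co0) • v) :=
  cB_smul_congr g (inO_lift8 _) hv (cB_lift8 _)

theorem act8_add (g : ↥CO) (a b : J8 → ZMod 2) : act8 g (a + b) = act8 g a + act8 g b := by
  conv_lhs => rw [← cB_lift8 a, ← cB_lift8 b, ← cB_add (inO_lift8 a),
    act8_cB g ((inO_lift8 a).add (inO_lift8 b)), smul_add', cB_add (inO_smul_CO g (inO_lift8 a))]
  rfl

theorem act8_mul (g h : ↥CO) (a : J8 → ZMod 2) : act8 (g * h) a = act8 g (act8 h a) := by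
  show _ = act8 g (cB ((h : ↥Co0) • lift8 a))
  rw [act8_cB g (inO_smul_CO h (inO_lift8 a)), ← mul_smul]
  rfl

theorem act8_one (a : J8 → ZMod 2) : act8 1 a = a := by
  rw [act8, Subgroup.coe_one, one_smul, cB_lift8]

theorem quad_act8 (g : ↥CO) (a : J8 → ZMod 2) :
    Cfsg.quadFormPlus 4 (ZMod 2) (act8 g a) = Cfsg.quadFormPlus 4 (ZMod 2) a := by
  rw [act8, quad_cB (inO_smul_CO g (inO_lift8 a)), qv_smul, qv_lift8]

/-- the action as a linear map -/
noncomputable def lin8 (g : ↥CO) : (J8 → ZMod 2) →ₗ[ZMod 2] (J8 → ZMod 2) where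
  toFun := act8 g
  map_add' := act8_add g
  map_smul' c a := by
    rcases (show ∀ c : ZMod 2, c = 0 ∨ c = 1 by decide) c with rfl | rfl
    · rw [zero_smul, RingHom.id_apply, zero_smul]
      have h := act8_add g 0 0
      rw [add_zero] at h
      exact left_eq_add.1 h
    · rw [one_smul, RingHom.id_apply, one_smul]

/-- the matrix of an element -/
noncomputable def mat8 : ↥CO →* Matrix J8 J8 (ZMod 2) where
  toFun g := LinearMap.toMatrix' (lin8 g)
  map_one' := by
    rw [show lin8 1 = LinearMap.id from LinearMap.ext fun a => act8_one a, LinearMap.toMatrix'_id]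
  map_mul' g h := by
    rw [← LinearMap.toMatrix'_comp, show lin8 (g * h) = (lin8 g).comp (lin8 h) from
      LinearMap.ext fun a => act8_mul g h a]

theorem mat8_mulVec (g : ↥CO) (a : J8 → ZMod 2) : (mat8 g).mulVec a = act8 g a :=
  LinearMap.congr_fun (Matrix.toLin'_toMatrix' (lin8 g)) a

/-- the map to the orthogonal group -/
noncomputable def toO : ↥CO →* Cfsg.isometryGroup (ZMod 2) (Cfsg.quadFormPlus 4 (ZMod 2)) :=
  mat8.toHomUnits.codRestrict _ fun g a _ => by
    show Cfsg.quadFormPlus 4 (ZMod 2) ((mat8 g).mulVec a) = _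
    rw [mat8_mulVec, quad_act8]

theorem toO_mulVec (g : ↥CO) (a : J8 → ZMod 2) :
    (((toO g : Cfsg.isometryGroup (ZMod 2) (Cfsg.quadFormPlus 4 (ZMod 2))) :
      Matrix.GeneralLinearGroup J8 (ZMod 2)) : Matrix J8 J8 (ZMod 2)).mulVec a = act8 g a :=
  mat8_mulVec g a

theorem toO_eq_iff {g h : ↥CO} : toO g = toO h ↔ ∀ a, act8 g a = act8 h a := by
  refine ⟨fun e a => by rw [← toO_mulVec, e, toO_mulVec],
    fun e => Subtype.ext (Units.ext (Matrix.ext_of_mulVec_single fun j => ?_))⟩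
  rw [toO_mulVec, toO_mulVec, e]

end CfsgLib.Leech.Octad
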